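/-
The normaliser of an extension field of prime degree is maximal in the symplectic group, any dimension, more than
two scalars.
-/
import Cfsg.Agent.Lib.SympFieldExt.Main

set_option autoImplicit false
set_option linter.all false

namespace Cfsg.Agent.SympSmall

open scoped Matrix
open Matrix Cfsg.Agent.Transvec Cfsg.Agent.SympFieldExt

variable {ι : Type} [Fintype ι] [DecidableEq ι] {F : Type*} [Field F]
variable {f : (ι → F) → (ι → F) → F} {r : ℕ} {K : Subalgebra F (Matrix ι ι F)}
variable {ℓ : Module.Dual F K}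

theorem normalizer_maximal_card (hE : Ext f r K ℓ) [Nonempty ι] [Fintype F] (hr : r.Prime)
    (hF : Fintype.card F ≠ 2) :
    Geo.IsMaximalIn (preserving (Units.coeHom (Matrix ι ι F)) f)
      (Geo.subalgebraNormalizer K ⊓ preserving (Units.coeHom (Matrix ι ι F)) f) := by
  obtain ⟨t, ht, htN⟩ := exists_outside hE hr.two_le
  refine ⟨lt_of_le_of_ne inf_le_right fun he => htN (he.ge ht).1, fun M hHM hMS => ?_⟩
  by_cases hall : ∀ g ∈ M, g ∈ Geo.subalgebraNormalizer K
  · exact Or.inl (le_antisymm (fun g hg => ⟨hall g hg, hMS hg⟩) hHM)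
  push Not at hall
  obtain ⟨g₀, hg₀, hg₀N⟩ := hall
  obtain ⟨u, hu, g, hg, hW, z, hz, hzu⟩ := exists_hyperplane hE hHM hMS hr (exists_indep hE) hg₀ hg₀N
  refine Or.inr ?_
  rcases exists_transvection_or_pair hE hHM hMS hr.two_le (fun h => absurd h hF) hu hg hW hz hzu with
    ⟨v, c, hv, hc, h⟩ | ⟨hF', -, -⟩
  · exact eq_of_transvection hE hHM hMS hv hc h
  · exact absurd hF' hF

end Cfsg.Agent.SympSmall
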