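/-
In characteristic two the group of a quadratic form polarising to an alternating form is maximal in the
symplectic group: dimension four with more than two scalars, and every dimension from five on.
-/
import Cfsg.Agent.Lib.Transvec.QuadEven
set_option autoImplicit false
set_option linter.all false

namespace Cfsg.Agent.SympSmall

open scoped Matrix
open Matrix Cfsg.Agent.Transvec

variable {ι : Type} [Fintype ι] [DecidableEq ι] {F : Type*} [Field F]
variable {f : (ι → F) → (ι → F) → F} (hf : Geo.IsSymplecticForm f)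
variable {Q : (ι → F) → F} (hQs : ∀ (c : F) v, Q (c • v) = c ^ 2 * Q v)
  (hQa : ∀ u v, Q (u + v) = Q u + Q v + f u v)
  (h2 : (2 : F) = 0) (hsq : ∀ a : F, ∃ b, b ^ 2 = a) (hn : 4 ≤ Fintype.card ι)
  (hq : 5 ≤ Fintype.card ι ∨ ∃ k : F, k ≠ 0 ∧ k ≠ 1)

include hQs hsq in
theorem value_of_ne {T : Submodule F (ι → F)} {t : ι → F} (ht : t ∈ T) (ht0 : Q t ≠ 0) (r : F) :
    ∃ t' ∈ T, Q t' = r := by
  obtain ⟨b, hb⟩ := hsq (r / Q t)
  exact ⟨b • t, T.smul_mem _ ht, by rw [hQs, hb, div_mul_cancel₀ _ ht0]⟩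

include hf hQs hQa h2 hn hq in
/-- A non-singular vector off two hyperplanes. -/
theorem exists_good {u w : ι → F} (hu : u ≠ 0) (hw : w ≠ 0) :
    ∃ y, f u y ≠ 0 ∧ f w y ≠ 0 ∧ Q y ≠ 0 := by
  obtain ⟨y₀, -, hy1, hy2⟩ := exists_two hf (nondeg_top hf) Submodule.mem_top Submodule.mem_top hu hw
  by_contra hc
  push Not at hc
  set S := LinearMap.ker (LinearMap.pi ![formR hf u, formR hf w]) with hS
  have hSd := card_sub_le_finrank_ker ![formR hf u, formR hf w]
  rw [← hS] at hSd
  have hmem : ∀ s ∈ S, f u s = 0 ∧ f w s = 0 := fun s hs => by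
    have h := LinearMap.mem_ker.1 hs
    exact ⟨(f_eq_zero_comm hf).1 (congrFun h 0), (f_eq_zero_comm hf).1 (congrFun h 1)⟩
  have hQy₀ : Q y₀ = 0 := hc y₀ hy1 hy2
  have hneg : ∀ x : F, -x = x := fun x => by linear_combination -x * h2
  have hlin : ∀ k : F, k ≠ 0 → ∀ s ∈ S, Q s = k * f y₀ s := by
    intro k hk s hs
    obtain ⟨e1, e2⟩ := hmem s hs
    have h := hc (k • y₀ + s) (by rw [hf.bilinear.add_right, hf.bilinear.smul_right, e1, add_zero]; exact mul_ne_zero hk hy1)
      (by rw [hf.bilinear.add_right, hf.bilinear.smul_right, e2, add_zero]; exact mul_ne_zero hk hy2)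
    rw [hQa, hQs, hQy₀, hf.bilinear.smul_left] at h
    rw [← hneg (k * _)]
    linear_combination h
  rcases hq with h5 | ⟨k, hk0, hk1⟩
  · have := finrank_isotropic_le hf (T := S) fun x hx y hy => by
      have e := hlin 1 one_ne_zero _ (S.add_mem hx hy)
      rw [hQa, hlin 1 one_ne_zero x hx, hlin 1 one_ne_zero y hy, hf.bilinear.add_right] at e
      linear_combination e
    omega
  obtain ⟨s, hs, hs0⟩ := S.ne_bot_iff.1 fun h => by rw [h, finrank_bot] at hSd; omega
  have hy₀s : f y₀ s = 0 := by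
    have : (k - 1) * f y₀ s = 0 := by linear_combination hlin 1 one_ne_zero s hs - hlin k hk0 s hs
    exact (mul_eq_zero.1 this).resolve_left (sub_ne_zero.2 hk1)
  have hQs0 : Q s = 0 := by rw [hlin 1 one_ne_zero s hs, hy₀s, mul_zero]
  obtain ⟨v, hv⟩ := (hf.nondegenerate s hs0).1
  obtain ⟨t, t1, t2⟩ : ∃ t : F, f u (v + t • y₀) ≠ 0 ∧ f w (v + t • y₀) ≠ 0 := by
    simp only [hf.bilinear.add_right, hf.bilinear.smul_right]
    have one : ∀ {a b t t' : F}, b ≠ 0 → a + t * b = 0 → a + t' * b = 0 → t = t' := fun hb h h' =>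
      mul_right_cancel₀ hb (by linear_combination h - h')
    by_contra hcon
    push Not at hcon
    by_cases a0 : f u v + 0 * f u y₀ = 0
    · have b1 : f w v + 1 * f w y₀ = 0 := hcon 1 fun h => zero_ne_one (one hy1 a0 h)
      have b2 : f w v + k * f w y₀ = 0 := hcon k fun h => hk0 (one hy1 h a0)
      exact hk1 (one hy2 b2 b1)
    · have b0 := hcon 0 a0
      by_cases a1 : f u v + 1 * f u y₀ = 0
      · exact hk0 (one hy2 (hcon k fun h => hk1 (one hy1 h a1)) b0)
      · exact one_ne_zero (one hy2 (hcon 1 a1) b0)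
  obtain ⟨e1, e2⟩ := hmem s hs
  have h := hc (v + t • y₀ + s) (by rwa [hf.bilinear.add_right, e1, add_zero])
    (by rwa [hf.bilinear.add_right, e2, add_zero])
  rw [hQa, hc _ t1 t2, hQs0, hf.bilinear.add_left, hf.bilinear.smul_left, hy₀s] at h
  apply hv
  linear_combination h

include hf hQs hQa h2 hsq hn in
/-- A singular vector. -/
theorem exists_null : ∃ u : ι → F, u ≠ 0 ∧ Q u = 0 := by
  obtain ⟨i⟩ : Nonempty ι := Fintype.card_pos_iff.1 (by omega)
  set y : ι → F := Pi.single i 1 with hy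
  have hy0 : y ≠ 0 := fun h => by simpa [hy] using congrFun h i
  by_cases hQy : Q y = 0
  · exact ⟨y, hy0, hQy⟩
  obtain ⟨t, ht, hty⟩ : ∃ t ∈ LinearMap.ker (LinearMap.pi ![formR hf y]), t ∉ Submodule.span F {y} := by
    by_contra hc
    push Not at hc
    have h1 := Submodule.finrank_mono (show LinearMap.ker (LinearMap.pi ![formR hf y]) ≤ Submodule.span F {y} from hc)
    have h3 := card_sub_le_finrank_ker ![formR hf y]
    rw [finrank_span_singleton hy0] at h1
    omega
  have hyt : f t y = 0 := congrFun (LinearMap.mem_ker.1 ht) 0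
  obtain ⟨b, hb⟩ := hsq (Q t / Q y)
  refine ⟨t + b • y, fun h => hty ?_, ?_⟩
  · rw [eq_neg_of_add_eq_zero_left h]
    exact Submodule.neg_mem _ (Submodule.smul_mem _ _ (Submodule.mem_span_singleton_self _))
  · rw [hQa, hQs, hb, div_mul_cancel₀ _ hQy, hf.bilinear.smul_right, hyt]
    linear_combination Q t * h2

include hf hQs hQa h2 hsq hn hq in
/-- Vectors with the same value of Q are conjugate under the group generated by the reflections. -/
theorem small_isometry_move {K : Subgroup (GL ι F)}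
    (hK : ∀ g, (∀ x, Q (mv g x) = Q x) → g ∈ K) {u w : ι → F} (hu : u ≠ 0) (hw : w ≠ 0)
    (h : Q u = Q w) : ∃ g ∈ K, mv g u = w := by
  have hneg : ∀ a : F, -a = a := fun a => by linear_combination -a * h2
  have hQu : ∀ a b, Q a = Q b → f a b ≠ 0 → ∃ g ∈ K, mv g a = b := by
    intro a b hab hfab
    have hs : Q (b - a) = f a b := by
      have e : b - a = a + b := by
        ext i; simp only [Pi.sub_apply, Pi.add_apply]; linear_combination (-(a i)) * h2
      rw [e, hQa, hab]
      linear_combination Q b * h2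
    refine ⟨_, hK _ fun x => ?_, stv_map hf hfab⟩
    have := refl_isometry hf hQs hQa h2 (s := b - a) (by rwa [hs]) x
    rwa [hs] at this
  by_cases hfuw : f u w = 0
  · obtain ⟨y₁, hy1, hy2, hy3⟩ := exists_good hf hQs hQa h2 hn hq hu hw
    obtain ⟨b, hb⟩ := hsq (Q y₁)⁻¹
    have hb0 : b ≠ 0 := fun h => inv_ne_zero hy3 (by rw [← hb, h]; ring)
    obtain ⟨y, hy⟩ : ∃ y, y = b • y₁ := ⟨_, rfl⟩
    have hQy : Q y = 1 := by rw [hy, hQs, hb, inv_mul_cancel₀ hy3]
    have huy : f u y ≠ 0 := by rw [hy, hf.bilinear.smul_right]; exact mul_ne_zero hb0 hy1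
    have hwy : f w y ≠ 0 := by rw [hy, hf.bilinear.smul_right]; exact mul_ne_zero hb0 hy2
    set z := u + f u y • y with hz
    have hQz : Q z = Q u := by
      rw [hz, hQa, hQs, hQy, hf.bilinear.smul_right]
      linear_combination (f u y) ^ 2 * h2
    have huz : f u z ≠ 0 := by
      rw [hz, hf.bilinear.add_right, hf.bilinear.smul_right, hf.alternating, zero_add]
      exact mul_ne_zero huy huy
    have hwz : f z w ≠ 0 := by
      rw [hz, hf.bilinear.add_left, hf.bilinear.smul_left, hfuw, zero_add, hf.skew y w, hneg]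
      exact mul_ne_zero huy hwy
    obtain ⟨g₁, hg₁, e₁⟩ := hQu u z hQz.symm huz
    obtain ⟨g₂, hg₂, e₂⟩ := hQu z w (hQz.trans h) hwz
    exact ⟨g₂ * g₁, K.mul_mem hg₂ hg₁, by rw [mv_mul, e₁, e₂]⟩
  · exact hQu u w h hfuw

include hf hQs hQa h2 hsq hn hq in
theorem quad_maximal :
    Geo.IsMaximalIn (preserving (Units.coeHom (Matrix ι ι F)) f)
      (Geo.quadSimilarityGroup Q ⊓ preserving (Units.coeHom (Matrix ι ι F)) f) := by
  set H := Geo.quadSimilarityGroup Q ⊓ preserving (Units.coeHom (Matrix ι ι F)) f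
  have hnz : ∃ e : ι → F, e ≠ 0 := by
    obtain ⟨i⟩ : Nonempty ι := Fintype.card_pos_iff.1 (by omega)
    exact ⟨Pi.single i 1, fun h => by simpa using congrFun h i⟩
  have hHiso : ∀ g ∈ H, ∀ x, Q (mv g x) = Q x := by
    rintro g ⟨⟨c, hc⟩, hg⟩ x
    obtain ⟨e, he⟩ := hnz
    obtain ⟨d, hd⟩ := (hf.nondegenerate e he).2
    have hc1 : (c : F) = 1 := by
      have := hQa (mv g e) (mv g d)
      rw [← mv_add] at this
      have hfgd : f (mv g e) (mv g d) = f e d := hg e d
      rw [show Q (mv g (e + d)) = _ from hc _, show Q (mv g e) = _ from hc _,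
        show Q (mv g d) = _ from hc _, hQa, hfgd] at this
      have h0 : ((c : F) - 1) * f e d = 0 := by linear_combination this
      rcases mul_eq_zero.1 h0 with h | h
      · exact sub_eq_zero.1 h
      · exact absurd h hd
    rw [show Q (mv g x) = _ from hc x, hc1, one_mul]
  have hisoH : ∀ g : GL ι F, (∀ x, Q (mv g x) = Q x) → g ∈ H := fun g hg =>
    ⟨⟨1, fun x => by rw [Units.val_one, one_mul]; exact hg x⟩, isometry_preserving hQa hg⟩
  refine ⟨?_, fun M hHM hMS => ?_⟩
  · -- a transvection at a singular centre is not an isometry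
    obtain ⟨u, hu0, hQu⟩ := exists_null hf hQs hQa h2 hsq hn
    obtain ⟨x, -, hux⟩ := exists_partner hf (nondeg_top hf) (e := u) Submodule.mem_top hu0
    refine lt_of_le_of_ne inf_le_right fun he => ?_
    have := hHiso _ (he.ge (stv_mem hf u 1)) x
    rw [mv_stv, hQa, hQs, hQu, hf.bilinear.smul_right, hf.skew x u, hux] at this
    simp at this
  by_cases hM : ∀ g ∈ M, ∀ x, Q (mv g x) = Q x
  · exact Or.inl (le_antisymm (fun g hg => hisoH g (hM g hg)) hHM)
  refine Or.inr (sCentres_eq_univ hf hMS ?_)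
  push Not at hM
  obtain ⟨g, hg, a, ha⟩ := hM
  have hiso : ∀ k : GL ι F, (∀ x, Q (mv k x) = Q x) → k ∈ M := fun k hk => hHM (hisoH k hk)
  set L : (ι → F) → F := fun x => Q (mv g x) - Q x with hL
  have hLa : ∀ x y, L (x + y) = L x + L y := fun x y => by
    have hfg : f (mv g x) (mv g y) = f x y := hMS hg x y
    simp only [hL, mv_add, hQa, hfg]; ring
  have hLs : ∀ (c : F) x, L (c • x) = c ^ 2 * L x := fun c x => by
    simp only [hL, mv_smul, hQs]; ring
  let K₀ : Submodule F (ι → F) :=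
    { carrier := {x | L x = 0}
      add_mem' := fun {x y} hx hy => by
        show L (x + y) = 0
        rw [hLa, show L x = 0 from hx, show L y = 0 from hy, add_zero]
      zero_mem' := by
        show L 0 = 0
        simpa using hLs 0 0
      smul_mem' := fun c x hx => by
        show L (c • x) = 0
        rw [hLs, show L x = 0 from hx, mul_zero] }
  have ha' : L a ≠ 0 := sub_ne_zero.2 ha
  have hK₀ : Fintype.card ι ≤ Module.finrank F K₀ + 1 := by
    have htop : K₀ ⊔ Submodule.span F {a} = ⊤ := Submodule.eq_top_iff'.2 fun x => by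
      obtain ⟨b, hb⟩ := hsq (L x / L a)
      rw [show x = (x + b • a) + -(b • a) by abel]
      refine Submodule.add_mem _ (Submodule.mem_sup_left ?_)
        (Submodule.mem_sup_right (Submodule.neg_mem _ (Submodule.smul_mem _ _ (Submodule.mem_span_singleton_self a))))
      show L (x + b • a) = 0
      rw [hLa, hLs, hb, div_mul_cancel₀ _ ha']
      linear_combination L x * h2
    have h := Submodule.finrank_sup_add_finrank_inf_eq K₀ (Submodule.span F {a})
    have h1 : Module.finrank F ↥(Submodule.span F {a}) ≤ 1 := (finrank_span_singleton (by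
      intro h0; exact ha' (by subst h0; simpa using hLs 0 0))).le
    rw [htop, finrank_top, Module.finrank_pi] at h
    omega
  have hval : ∀ s r, ∃ v, L v = s ∧ Q v = r := by
    intro s r
    obtain ⟨b, hb⟩ := hsq (s / L a)
    set T := K₀ ⊓ LinearMap.ker (formR hf a) with hTdef
    have hTd : Fintype.card ι ≤ Module.finrank F T + 2 := by
      have h := Submodule.finrank_sup_add_finrank_inf_eq K₀ (LinearMap.ker (formR hf a))
      have h' := Submodule.finrank_le (K₀ ⊔ LinearMap.ker (formR hf a))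
      have h'' := card_sub_le_finrank_ker ![formR hf a]
      have heq : LinearMap.ker (LinearMap.pi ![formR hf a]) = LinearMap.ker (formR hf a) := by
        ext x; simp [funext_iff, Fin.forall_fin_one]
      rw [heq] at h''
      rw [Module.finrank_pi] at h'
      rw [← hTdef] at h
      omega
    obtain ⟨t₀, ht₀, hQt₀⟩ : ∃ t₀ ∈ T, Q t₀ ≠ 0 := by
      by_contra hc
      push Not at hc
      have hiT : ∀ x ∈ T, ∀ y ∈ T, f x y = 0 := fun x hx y hy => by
        have := hQa x y
        rwa [hc x hx, hc y hy, hc _ (T.add_mem hx hy), zero_add, zero_add, eq_comm] at this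
      have haT : a ∉ T := fun h => ha' h.1
      have hperp : ∀ x ∈ T, f x a = 0 := fun x hx => by simpa [formR_apply] using hx.2
      have hiso' : ∀ x ∈ T ⊔ Submodule.span F {a}, ∀ y ∈ T ⊔ Submodule.span F {a}, f x y = 0 := by
        intro x hx y hy
        obtain ⟨x₁, hx₁, x₂, hx₂, rfl⟩ := Submodule.mem_sup.1 hx
        obtain ⟨y₁, hy₁, y₂, hy₂, rfl⟩ := Submodule.mem_sup.1 hy
        obtain ⟨c₁, rfl⟩ := Submodule.mem_span_singleton.1 hx₂
        obtain ⟨c₂, rfl⟩ := Submodule.mem_span_singleton.1 hy₂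
        simp only [hf.bilinear.add_left, hf.bilinear.add_right, hf.bilinear.smul_left, hf.bilinear.smul_right,
          hf.alternating, hiT _ hx₁ _ hy₁, hperp _ hx₁, (f_eq_zero_comm hf).1 (hperp _ hy₁)]
        ring
      have h5 := finrank_isotropic_le hf hiso'
      have h6 : Module.finrank F T < Module.finrank F ↥(T ⊔ Submodule.span F {a}) :=
        Submodule.finrank_lt_finrank_of_lt (lt_of_le_of_ne le_sup_left fun he =>
          haT (he.ge (Submodule.mem_sup_right (Submodule.mem_span_singleton_self a))))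
      omega
    obtain ⟨t, ht, hQt⟩ := value_of_ne hQs hsq ht₀ hQt₀ (r - Q (b • a))
    have hta : f (b • a) t = 0 := by
      rw [hf.bilinear.smul_left, (f_eq_zero_comm hf).1 (LinearMap.mem_ker.1 ht.2), mul_zero]
    refine ⟨b • a + t, ?_, ?_⟩
    · rw [hLa, show L t = 0 from ht.1, hLs, hb, div_mul_cancel₀ _ ha', add_zero]
    · rw [hQa, hQt, hta]; ring
  -- transvections whose parameter is the reciprocal of Q ∘ g
  have htv : ∀ v, Q (mv g v) ≠ 0 → stv hf v (Q (mv g v))⁻¹ ∈ M := by
    intro v hv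
    have h1 : stv hf (mv g v) (Q (mv g v))⁻¹ ∈ M := hiso _ (refl_isometry hf hQs hQa h2 hv)
    have := stv_conj hf (g := g⁻¹) one_ne_zero
      (fun x y => by rw [one_mul]; exact hMS (M.inv_mem hg) x y) (mv g v) (Q (mv g v))⁻¹
    rw [mv_inv_mv, div_one] at this
    rw [← this]
    exact M.mul_mem (M.mul_mem (M.inv_mem hg) h1) (M.inv_mem (M.inv_mem hg))
  have transfer : ∀ {v v' : ι → F} (c : F), v ≠ 0 → v' ≠ 0 → Q v = Q v' → stv hf v c ∈ M →
      stv hf v' c ∈ M := by
    intro v v' c hv hv' hQ hm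
    obtain ⟨k, hk, hkv⟩ := small_isometry_move hf hQs hQa h2 hsq hn hq hiso hv hv' hQ
    have := stv_conj hf (g := k) one_ne_zero (fun x y => by rw [one_mul]; exact hMS hk x y) v c
    rw [hkv, div_one] at this
    rw [← this]
    exact M.mul_mem (M.mul_mem hk hm) (M.inv_mem hk)
  have hQ0 : Q 0 = 0 := by simpa using hQs 0 0
  intro v c
  rcases eq_or_ne c 0 with rfl | hc
  · rw [stv_zero]; exact M.one_mem
  rcases eq_or_ne v 0 with rfl | hv0
  · rw [show stv hf (0 : ι → F) c = 1 from ext_mv fun x => by rw [mv_stv, mv_one, smul_zero, add_zero]]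
    exact M.one_mem
  by_cases hv : Q v = 0
  · -- singular centre
    obtain ⟨u, hLu, hQu⟩ := hval 1 0
    have hgu : Q (mv g u) = 1 := by
      have : L u = 1 := hLu
      simp only [hL, hQu, sub_zero] at this
      exact this
    have hu0 : u ≠ 0 := fun h => by rw [h, mv_zero, hQ0] at hgu; exact zero_ne_one hgu
    obtain ⟨b, hb⟩ := hsq c
    have hb0 : b ≠ 0 := fun h => hc (by rw [← hb, h]; ring)
    have h1 := htv u (by rw [hgu]; exact one_ne_zero)
    rw [hgu, inv_one] at h1
    have h2' := transfer 1 hu0 (smul_ne_zero hb0 hu0) (by rw [hQs, hQu, mul_zero]) h1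
    rw [stv_smul, mul_one, ← pow_two, hb] at h2'
    exact transfer c hu0 hv0 (by rw [hQu, hv]) h2'
  · -- non-singular centre
    obtain ⟨b, hb⟩ := hsq (Q v)
    have hb0 : b ≠ 0 := fun h => hv (by rw [← hb, h]; ring)
    have hv1 : v = b • (b⁻¹ • v) := by rw [smul_smul, mul_inv_cancel₀ hb0, one_smul]
    rw [hv1, stv_smul]
    set d := b * b * c with hd
    have hd0 : d ≠ 0 := mul_ne_zero (mul_ne_zero hb0 hb0) hc
    obtain ⟨u, hLu, hQu⟩ := hval (d⁻¹ - 1) 1
    have hgu : Q (mv g u) = d⁻¹ := by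
      have : L u = d⁻¹ - 1 := hLu
      simp only [hL, hQu] at this
      linear_combination this
    have h1 := htv u (by rw [hgu]; exact inv_ne_zero hd0)
    rw [hgu, inv_inv] at h1
    refine transfer d (fun h => by rw [h, hQ0] at hQu; exact zero_ne_one hQu)
      (smul_ne_zero (inv_ne_zero hb0) hv0) ?_ h1
    rw [hQu, hQs, inv_pow, hb, inv_mul_cancel₀ hv]

end Cfsg.Agent.SympSmall
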