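/-
The stabiliser of two complementary totally singular subspaces is maximal in the symplectic group, m ≥ 3, q odd.
-/
import Cfsg.Agent.Lib.Transvec.SympStd
import Cfsg.Agent.Lib.Transvec.AltPair

set_option autoImplicit false
set_option linter.all false

open Cfsg

namespace Cfsg.Agent.SympSmall

/-- The stabiliser of two complementary totally singular subspaces is maximal in the symplectic group, m ≥ 3, q odd. -/
theorem spGL_pair_maximal {F : Type*} [Field F] [Fintype F] (m : ℕ) (hm : 3 ≤ m) (hodd : Odd (Fintype.card F)) (D : Fin 2 → Submodule F (Fin m ⊕ Fin m → F)) (hD : Cfsg.Geo.IsMDecomposition m D) (hts : ∀ i, Cfsg.Geo.IsTotallySingularFor (Cfsg.sympForm m F) (D i)) : Cfsg.Geo.IsMaximalIn (Cfsg.spGL m F) (Cfsg.Geo.decompositionStabilizer D ⊓ Cfsg.spGL m F) := by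
  have hf := Cfsg.Agent.Transvec.sympForm_isSymplectic m F
  have hne : ∀ i : Fin 2, i = 0 ∨ i = 1 := fun i => by fin_cases i <;> simp
  have h2 : (2 : F) ≠ 0 := by
    intro h
    have : CharP F 2 := by
      rcases CharP.exists F with ⟨p, hp⟩
      have hdvd : p ∣ 2 := (CharP.cast_eq_zero_iff F p 2).1 (by exact_mod_cast h)
      rcases (Nat.dvd_prime Nat.prime_two).1 hdvd with rfl | rfl
      · exact absurd rfl (CharP.char_ne_one F 1)
      · exact hp
    have h1 := FiniteField.even_card_of_char_two (F := F) (ringChar.eq F 2)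
    rcases hodd with ⟨j, hj⟩
    omega
  have hc : IsCompl (D 0) (D 1) := by
    refine ⟨hD.indep.pairwiseDisjoint (by decide), codisjoint_iff.2 (eq_top_iff.2 ?_)⟩
    rw [← hD.iSup_eq_top]
    refine iSup_le fun i => ?_
    rcases hne i with rfl | rfl
    · exact le_sup_left
    · exact le_sup_right
  have hk5 : ∀ i, 3 ≤ Module.finrank F (D i) := fun i => by rw [hD.finrank_eq]; omega
  refine Cfsg.Agent.Transvec.alt_pair_stab_maximal hf (fun u hu v hv => hts 0 u hu v hv)
    (fun u hu v hv => hts 1 u hu v hv) hc h2 (hk5 0) (hk5 1) fun g => ?_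
  have key : ∀ a b : Fin 2, (D a).map (Matrix.toLin' (g : Matrix (Fin m ⊕ Fin m) (Fin m ⊕ Fin m) F)) = D b ↔
      ∀ u ∈ D a, Cfsg.Agent.Transvec.mv g u ∈ D b := by
    intro a b
    constructor
    · intro h u hu
      rw [← h]
      exact ⟨u, hu, Matrix.toLin'_apply _ _⟩
    · intro h
      have hinj : Function.Injective (Matrix.toLin' (g : Matrix (Fin m ⊕ Fin m) (Fin m ⊕ Fin m) F)) := fun x y e =>
        Cfsg.Agent.Transvec.mv_inj g (by rwa [Matrix.toLin'_apply, Matrix.toLin'_apply] at e)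
      refine Submodule.eq_of_le_of_finrank_eq ?_ ?_
      · rintro _ ⟨u, hu, rfl⟩
        rw [Matrix.toLin'_apply]
        exact h u hu
      · rw [← LinearEquiv.finrank_eq (Submodule.equivMapOfInjective _ hinj (D a)), hD.finrank_eq, hD.finrank_eq]
  constructor
  · rintro ⟨⟨π, hπ⟩, hg⟩
    refine ⟨hg, ?_⟩
    rcases hne (π 0) with h0 | h0 <;> rcases hne (π 1) with h1 | h1
    · exact absurd (π.injective (h0.trans h1.symm)) (by decide)
    · exact Or.inl ⟨(key 0 0).1 ((hπ 0).trans (congrArg D h0)), (key 1 1).1 ((hπ 1).trans (congrArg D h1))⟩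
    · exact Or.inr ⟨(key 0 1).1 ((hπ 0).trans (congrArg D h0)), (key 1 0).1 ((hπ 1).trans (congrArg D h1))⟩
    · exact absurd (π.injective (h0.trans h1.symm)) (by decide)
  · rintro ⟨hg, ⟨h0, h1⟩ | ⟨h0, h1⟩⟩
    · refine ⟨⟨1, fun i => ?_⟩, hg⟩
      rcases hne i with rfl | rfl
      · exact (key 0 0).2 h0
      · exact (key 1 1).2 h1
    · refine ⟨⟨Equiv.swap 0 1, fun i => ?_⟩, hg⟩
      rcases hne i with rfl | rfl
      · rw [Equiv.swap_apply_left]; exact (key 0 1).2 h0
      · rw [Equiv.swap_apply_right]; exact (key 1 0).2 h1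

end Cfsg.Agent.SympSmall
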