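/-
The normaliser of a unitary field structure is maximal in the symplectic group, m ≥ 5, q odd.
-/
import Cfsg.Agent.Lib.Transvec.SympStd
import Cfsg.Agent.Lib.Transvec.AltUnitary

set_option autoImplicit false
set_option linter.all false

open Cfsg

namespace Cfsg.Agent.SympSmall

open scoped Matrix

/-- The normaliser of a unitary field structure is maximal in the symplectic group, m ≥ 5, q odd. -/
theorem spGL_unitary_maximal {F : Type*} [Field F] [Fintype F] (m : ℕ) (hm : 3 ≤ m) (hodd : Odd (Fintype.card F)) (K : Subalgebra F (Matrix (Fin m ⊕ Fin m) (Fin m ⊕ Fin m) F)) (hK : Cfsg.Geo.IsFieldSubalgebra 2 K) (hac : Cfsg.Geo.IsAdjointClosedFor (Cfsg.sympForm m F) K) (hnsa : ¬ Cfsg.Geo.IsSelfAdjointFor (Cfsg.sympForm m F) K) : Cfsg.Geo.IsMaximalIn (Cfsg.spGL m F) (Cfsg.Geo.subalgebraNormalizer K ⊓ Cfsg.spGL m F) := by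
  classical
  have hf := Cfsg.Agent.Transvec.sympForm_isSymplectic m F
  have h2 : (2 : F) ≠ 0 := by
    intro h
    have : CharP F 2 := by
      rcases CharP.exists F with ⟨p, hp⟩
      have hdvd : p ∣ 2 := (CharP.cast_eq_zero_iff F p 2).1 (by exact_mod_cast h)
      rcases (Nat.dvd_prime Nat.prime_two).1 hdvd with rfl | rfl
      · exact absurd rfl (CharP.char_ne_one F 1)
      · exact hp
    have h1 := FiniteField.even_card_of_char_two (F := F) (ringChar.eq F 2)
    rcases hodd with ⟨j, hj⟩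
    omega
  set f := Cfsg.sympForm m F with hfdef
  obtain ⟨k, hk, u₀, v₀, hne⟩ : ∃ k ∈ K, ∃ u v, f (k *ᵥ u) v ≠ f u (k *ᵥ v) := by
    by_contra h
    push Not at h
    exact hnsa h
  obtain ⟨k', hk', had⟩ := hac k hk
  set θ : Matrix (Fin m ⊕ Fin m) (Fin m ⊕ Fin m) F := k - k' with hθ
  have hθK : θ ∈ K := K.sub_mem hk hk'
  have had' : ∀ u v, f (k' *ᵥ u) v = f u (k *ᵥ v) := fun u v => by
    rw [hf.skew, ← had v u, ← hf.skew]
  have hskew : ∀ x y, f (θ *ᵥ x) y = -f x (θ *ᵥ y) := fun x y => by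
    rw [hθ, Matrix.sub_mulVec, Matrix.sub_mulVec, Cfsg.Agent.Transvec.f_sub_left hf,
      Cfsg.Agent.Transvec.f_sub_right hf, had, had']
    ring
  have hns0 : ∀ c : F, θ ≠ c • 1 := by
    intro c hc
    obtain ⟨hx, hy⟩ : f (θ *ᵥ u₀) v₀ ≠ 0 ∧ f u₀ v₀ = f u₀ v₀ := ⟨fun h => hne (by
      rw [hθ, Matrix.sub_mulVec, Cfsg.Agent.Transvec.f_sub_left hf, had', sub_eq_zero] at h
      exact h), rfl⟩
    have h := hskew u₀ v₀
    simp only [hc, Matrix.smul_mulVec, Matrix.one_mulVec, hf.bilinear.smul_left, hf.bilinear.smul_right] at h hx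
    have h' : 2 * (c * f u₀ v₀) = 0 := by linear_combination h
    exact hx ((mul_eq_zero.1 h').resolve_left h2)
  have hcoord : ∀ x ∈ K, ∃ a b : F, x = a • (1 : Matrix (Fin m ⊕ Fin m) (Fin m ⊕ Fin m) F) + b • θ := by
    let b1 : Fin 2 → K := ![1, ⟨θ, hθK⟩]
    have hind : LinearIndependent F b1 := by
      rw [linearIndependent_fin2]
      refine ⟨fun h => hns0 0 ?_, fun a h => ?_⟩
      · simpa [b1] using congrArg Subtype.val h
      · have h' : a • θ = 1 := congrArg Subtype.val h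
        rcases eq_or_ne a 0 with rfl | ha
        · rw [zero_smul] at h'
          have h'' := congrArg (fun M : Matrix (Fin m ⊕ Fin m) (Fin m ⊕ Fin m) F => M (.inl ⟨0, by omega⟩) (.inl ⟨0, by omega⟩)) h'
          simp at h''
        · exact hns0 a⁻¹ (by rw [← h', smul_smul, inv_mul_cancel₀ ha, one_smul])
    intro x hx
    have htop := hind.span_eq_top_of_card_eq_finrank (by rw [Fintype.card_fin, ← hK.finrank_eq])
    have hmem : (⟨x, hx⟩ : K) ∈ Submodule.span F (Set.range b1) := htop ▸ Submodule.mem_top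
    obtain ⟨c, hc⟩ := (Submodule.mem_span_range_iff_exists_fun F).1 hmem
    refine ⟨c 0, c 1, ?_⟩
    have := congrArg Subtype.val hc
    simpa [Fin.sum_univ_two, b1] using this.symm
  obtain ⟨δ, b, hsq⟩ := hcoord (θ * θ) (K.mul_mem hθK hθK)
  have hb : b = 0 := by
    by_contra hb
    obtain ⟨x, y, hxy⟩ : ∃ x y, f (θ *ᵥ x) y ≠ 0 := by
      refine ⟨u₀, v₀, fun h => hne ?_⟩
      rw [hθ, Matrix.sub_mulVec, Cfsg.Agent.Transvec.f_sub_left hf, had', sub_eq_zero] at h
      exact h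
    have h1 : f ((θ * θ) *ᵥ x) y = f x ((θ * θ) *ᵥ y) := by
      rw [← Matrix.mulVec_mulVec, ← Matrix.mulVec_mulVec, hskew, hskew, neg_neg]
    simp only [hsq, Matrix.add_mulVec, Matrix.smul_mulVec, Matrix.one_mulVec, hf.bilinear.add_left,
      hf.bilinear.add_right, hf.bilinear.smul_left, hf.bilinear.smul_right] at h1
    have h2' : 2 * (b * f (θ *ᵥ x) y) = 0 := by linear_combination h1 + b * hskew x y
    exact hxy ((mul_eq_zero.1 ((mul_eq_zero.1 h2').resolve_left h2)).resolve_left hb)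
  subst hb
  rw [zero_smul, add_zero] at hsq
  have hnsq : ¬ IsSquare δ := by
    rintro ⟨s, rfl⟩
    have hm : θ - s • 1 ∈ K := K.sub_mem hθK (K.smul_mem K.one_mem s)
    obtain ⟨y, -, hy⟩ := hK.inv (θ - s • 1) hm (sub_ne_zero.2 (hns0 s))
    have hprod : (θ + s • 1) * (θ - s • 1) = 0 := by
      simp [mul_sub, add_mul, hsq, smul_smul]; abel
    have h := congrArg (· * y) hprod
    simp only [mul_assoc, hy, mul_one, zero_mul] at h
    exact hns0 (-s) (by rw [neg_smul]; exact eq_neg_of_add_eq_zero_left h)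
  set J := Matrix.toLin' θ with hJdef
  have hJ : Cfsg.Agent.Transvec.IsSkewStruct f δ J := by
    refine ⟨fun x => ?_, fun x y => ?_⟩
    · rw [hJdef, Matrix.toLin'_apply, Matrix.toLin'_apply, Matrix.mulVec_mulVec, hsq, Matrix.smul_mulVec,
        Matrix.one_mulVec]
    · rw [hJdef, Matrix.toLin'_apply, Matrix.toLin'_apply]
      exact hskew x y
  refine Cfsg.Agent.Transvec.alt_skew_normalizer_maximal hf hJ h2 hnsq
    (by rw [Cfsg.Agent.Transvec.finrank_symp]; omega) fun g => ?_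
  simp only [hJdef, Matrix.toLin'_apply, Cfsg.Agent.Transvec.mv]
  constructor
  · rintro ⟨hN, hg⟩
    refine ⟨hg, ?_⟩
    obtain ⟨a, b, hab⟩ := hcoord _ ((hN θ).1 hθK)
    have hgθ : (g : Matrix (Fin m ⊕ Fin m) (Fin m ⊕ Fin m) F) * θ = (a • 1 + b • θ) * (g : Matrix (Fin m ⊕ Fin m) (Fin m ⊕ Fin m) F) := by
      rw [← hab, mul_assoc, ← Units.val_mul, inv_mul_cancel, Units.val_one, mul_one]
    have hg' : ∀ x y, f ((g : Matrix (Fin m ⊕ Fin m) (Fin m ⊕ Fin m) F) *ᵥ x) ((g : Matrix (Fin m ⊕ Fin m) (Fin m ⊕ Fin m) F) *ᵥ y) = f x y := hg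
    have key : ∀ x, (g : Matrix (Fin m ⊕ Fin m) (Fin m ⊕ Fin m) F) *ᵥ (θ *ᵥ x) =
        a • ((g : Matrix (Fin m ⊕ Fin m) (Fin m ⊕ Fin m) F) *ᵥ x) + b • (θ *ᵥ ((g : Matrix (Fin m ⊕ Fin m) (Fin m ⊕ Fin m) F) *ᵥ x)) := fun x => by
      rw [Matrix.mulVec_mulVec, hgθ, ← Matrix.mulVec_mulVec, Matrix.add_mulVec, Matrix.smul_mulVec,
        Matrix.one_mulVec, Matrix.smul_mulVec]
    obtain ⟨p, hp⟩ : ∃ p : Fin m ⊕ Fin m → F, p ≠ 0 := ⟨fun _ => 1, fun h => by simpa using congrFun h (.inl ⟨0, by omega⟩)⟩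
    obtain ⟨-, q, hq⟩ := hf.nondegenerate p hp
    have ha : a = 0 := by
      by_contra ha
      have h1 := hg' (θ *ᵥ p) q
      have h3 := hg' p (θ *ᵥ q)
      simp only [key, hf.bilinear.add_left, hf.bilinear.add_right, hf.bilinear.smul_left, hf.bilinear.smul_right,
        hskew, hg'] at h1 h3
      have h4 : 2 * (a * f p q) = 0 := by linear_combination h1 + h3
      exact hq ((mul_eq_zero.1 ((mul_eq_zero.1 h4).resolve_left h2)).resolve_left ha)
    subst ha
    have h1 : (b * b - 1) • (δ • ((g : Matrix (Fin m ⊕ Fin m) (Fin m ⊕ Fin m) F) *ᵥ p)) = 0 := by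
      have e2 : ∀ x, θ *ᵥ (θ *ᵥ x) = δ • x := fun x => by
        rw [Matrix.mulVec_mulVec, hsq, Matrix.smul_mulVec, Matrix.one_mulVec]
      have h := key (θ *ᵥ p)
      simp only [key p, e2, Matrix.mulVec_add, Matrix.mulVec_smul, zero_smul, zero_add, smul_zero] at h
      linear_combination (norm := module) -h
    have hgp : δ • ((g : Matrix (Fin m ⊕ Fin m) (Fin m ⊕ Fin m) F) *ᵥ p) ≠ 0 := smul_ne_zero (fun h => hnsq (h ▸ IsSquare.zero))
      fun h => hp (Cfsg.Agent.Transvec.mv_inj g (h.trans (Cfsg.Agent.Transvec.mv_zero g).symm))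
    have hb2 : (b - 1) * (b + 1) = 0 := by linear_combination (smul_eq_zero.1 h1).resolve_right hgp
    rcases mul_eq_zero.1 hb2 with hb | hb
    · exact Or.inl fun x => by rw [key, zero_smul, zero_add, sub_eq_zero.1 hb, one_smul]
    · exact Or.inr fun x => by rw [key, zero_smul, zero_add, eq_neg_of_add_eq_zero_left hb, neg_one_smul]
  · rintro ⟨hg, h⟩
    refine ⟨?_, hg⟩
    obtain ⟨e, he, hgθ⟩ : ∃ e : F, e * e = 1 ∧ (g : Matrix (Fin m ⊕ Fin m) (Fin m ⊕ Fin m) F) * θ = e • (θ * (g : Matrix (Fin m ⊕ Fin m) (Fin m ⊕ Fin m) F)) := by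
      rcases h with h | h
      · exact ⟨1, one_mul 1, Matrix.ext_of_mulVec_single fun i => by
          rw [one_smul, ← Matrix.mulVec_mulVec, ← Matrix.mulVec_mulVec]; exact h _⟩
      · exact ⟨-1, by ring, Matrix.ext_of_mulVec_single fun i => by
          rw [neg_one_smul, Matrix.neg_mulVec, ← Matrix.mulVec_mulVec, ← Matrix.mulVec_mulVec]; exact h _⟩
    intro x
    have hconj : ∀ a b : F, (g : Matrix (Fin m ⊕ Fin m) (Fin m ⊕ Fin m) F) * (a • 1 + b • θ) = (a • 1 + (b * e) • θ) * (g : Matrix (Fin m ⊕ Fin m) (Fin m ⊕ Fin m) F) :=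
      fun a b => by simp [mul_add, add_mul, hgθ, smul_smul]
    have hmem : ∀ a b : F, a • (1 : Matrix (Fin m ⊕ Fin m) (Fin m ⊕ Fin m) F) + b • θ ∈ K := fun a b =>
      K.add_mem (K.smul_mem K.one_mem a) (K.smul_mem hθK b)
    constructor
    · intro hx
      obtain ⟨a, b, rfl⟩ := hcoord x hx
      rw [hconj, mul_assoc, ← Units.val_mul, mul_inv_cancel, Units.val_one, mul_one]
      exact hmem _ _
    · intro hx
      obtain ⟨a, b, hab⟩ := hcoord _ hx
      have hgx : (g : Matrix (Fin m ⊕ Fin m) (Fin m ⊕ Fin m) F) * x = (g : Matrix (Fin m ⊕ Fin m) (Fin m ⊕ Fin m) F) * (a • 1 + (b * e) • θ) := by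
        rw [hconj, mul_assoc b e e, he, mul_one, ← hab, mul_assoc, ← Units.val_mul, inv_mul_cancel,
          Units.val_one, mul_one]
      rw [(Units.mul_right_inj g).1 hgx]
      exact hmem _ _

end Cfsg.Agent.SympSmall
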