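/-
In characteristic two the subfield subgroups of the isometry group of an alternating form are maximal, every
dimension from four on.
-/
import Cfsg.Agent.Lib.Transvec.SubfieldSymp
set_option autoImplicit false
set_option linter.all false

namespace Cfsg.Agent.SympSmall

open scoped Matrix
open Matrix Cfsg.Agent.Transvec

variable {ι : Type} [Fintype ι] [DecidableEq ι] {F : Type*} [Field F] {F₀ : Subfield F}
variable {f : (ι → F) → (ι → F) → F} (hf : Geo.IsSymplecticForm f)
  (hG : ∀ u v : ι → F, RatV F₀ u → RatV F₀ v → f u v ∈ F₀)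
  {M : Subgroup (GL ι F)} (hMf : M ≤ preserving (Units.coeHom (Matrix ι ι F)) f)
  (hT : ∀ v : ι → F, RatV F₀ v → ∀ c ∈ F₀, stv hf v c ∈ M)
  (h2 : (2 : F) = 0)

theorem qv_conj' {u y : ι → F} (a : F) {g : GL ι F} (hg : ∀ x z, f (mv g x) (mv g z) = f x z) :
    g * qv hf u y a * g⁻¹ = qv hf (mv g u) (mv g y) a := by
  have h : ∀ (v : ι → F) (c : F), g * stv hf v c * g⁻¹ = stv hf (mv g v) c := fun v c => by
    have := stv_conj hf (g := g) one_ne_zero (fun x z => by rw [one_mul]; exact hg x z) v c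
    rwa [div_one] at this
  simp only [qv, ← mv_add, ← h]
  group

include h2 in
/-- A multiple of u in the second place changes nothing. -/
theorem qv_shift {u y : ι → F} (h : f y u = 0) (k a : F) : qv hf u (y + k • u) a = qv hf u y a := by
  have h' : f (y + k • u) u = 0 := by
    rw [hf.bilinear.add_left, hf.bilinear.smul_left, hf.alternating, h, mul_zero, add_zero]
  refine ext_mv fun x => ?_
  rw [mv_qv hf h, mv_qv hf h', hf.bilinear.add_right, hf.bilinear.smul_right]
  match_scalars <;> grind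

/-- The second places of the elements of the unipotent radical of u lying in M. -/
def Places (M : Subgroup (GL ι F)) (u y : ι → F) : Prop := f y u = 0 ∧ ∃ a, qv hf u y a ∈ M

theorem places_add {u y y' : ι → F} (h : Places hf M u y) (h' : Places hf M u y') :
    Places hf M u (y + y') := by
  obtain ⟨a, ha⟩ := h.2
  obtain ⟨a', ha'⟩ := h'.2
  refine ⟨by rw [hf.bilinear.add_left, h.1, h'.1, add_zero], a + a' + f y' y, ?_⟩
  rw [← qv_mul hf h.1 h'.1]
  exact M.mul_mem ha ha'

include hMf h2 in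
/-- The displacement of a place under a transvection fixing u is a place. -/
theorem places_step {u y c : ι → F} {d : F} (h : Places hf M u y) (hc : f u c = 0) (hm : stv hf c d ∈ M) :
    Places hf M u ((d * f y c) • c) := by
  obtain ⟨a, ha⟩ := h.2
  have hy : f (mv (stv hf c d) y) u = 0 := by
    rw [mv_stv, hf.bilinear.add_left, hf.bilinear.smul_left, (f_eq_zero_comm hf).1 hc, h.1, mul_zero, add_zero]
  have h1 := M.mul_mem (M.mul_mem hm ha) (M.inv_mem hm)
  rw [qv_conj hf h.1 a (preserve_of_mem hMf hm) (stv_fix hf _ _ hc)] at h1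
  have h3 := places_add hf ⟨hy, a, h1⟩ h
  rw [mv_stv] at h3
  rwa [show y + (d * f y c) • c + y = (d * f y c) • c + (2 : F) • y by module, h2, zero_smul, add_zero] at h3

include hG hMf hT h2 in
/-- One multiplier outside the subfield makes every pair occur. -/
theorem square_pairs [Fintype F] {r : ℕ} (hr : r.Prime) (hcard : Fintype.card F = Nat.card F₀ ^ r)
    {u z w : ι → F₀} (huz : formDown hG z u = 0) (huw : formDown hG w u = 0) (hzw : formDown hG z w = 1)
    {x : ι → F} {d : F} (hxu : f (up u) x = 0) (hm : stv hf x d ∈ M)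
    (hlam : d * (f x (up w) * f x (up w)) ∉ F₀) :
    ∀ b : F, qv hf (up u) (b • up w) (b * b) ∈ M ∧ qv hf (up u) (b • up z) (b * b) ∈ M := by
  have hneg : ∀ x : F, -x = x := fun x => by linear_combination -x * h2
  have hf₀ := formDown_symplectic hf hG
  have e1 : f (up z) (up u) = 0 := congrArg Subtype.val huz
  have e2 : f (up w) (up u) = 0 := congrArg Subtype.val huw
  have e3 : f (up z) (up w) = 1 := congrArg Subtype.val hzw
  have e3' : f (up w) (up z) = 1 := by rw [hf.skew, e3, hneg]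
  have tz : ∀ k ∈ F₀, stv hf (up z) k ∈ M := fun k hk => hT _ (ratV_up z) k hk
  have tw : ∀ k ∈ F₀, stv hf (up w) k ∈ M := fun k hk => hT _ (ratV_up w) k hk
  set S : Set F := {b | Places hf M (up u) (b • up w)} with hS
  have swap : ∀ b ∈ S, Places hf M (up u) (b • up z) := fun b hb => by
    have := places_step hf hMf h2 hb ((f_eq_zero_comm hf).1 e1) (tz 1 F₀.one_mem)
    rwa [hf.bilinear.smul_left, e3', mul_one, one_mul] at this
  have back : ∀ (k : F), k ∈ F₀ → ∀ b, Places hf M (up u) (b • up z) → k * b ∈ S := fun k hk b hb => by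
    have := places_step hf hMf h2 hb ((f_eq_zero_comm hf).1 e2) (tw k hk)
    rwa [hf.bilinear.smul_left, e3, mul_one] at this
  have hone : (1 : F) ∈ S := ⟨by rw [one_smul, e2], 0, by
    rw [one_smul]; exact qv_rat_mem hf hT (ratV_up u) (ratV_up w) F₀.zero_mem⟩
  have hall : ∀ b : F, b ∈ S := fun b => by
    have := mul_closed hr hcard (B := S) (fun a ha b hb => by
        show Places hf M (up u) ((a + b) • up w)
        rw [add_smul]; exact places_add hf ha hb)
      (fun k hk b hb => back k hk b (swap b hb)) hlam (fun b hb => ?_) b 1 hone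
    · simpa using this
    · have h1 := places_step hf hMf h2 hb hxu hm
      have h3 := places_step hf hMf h2 h1 ((f_eq_zero_comm hf).1 e2) (tw 1 F₀.one_mem)
      show Places hf M (up u) _
      rw [hf.bilinear.smul_left, hf.bilinear.smul_left, hf.skew (up w) x, hneg] at h3
      convert h3 using 2
      ring
  intro b
  obtain ⟨a, ha⟩ := (hall b).2
  obtain ⟨a', ha'⟩ := (swap b (hall b)).2
  have eu : formDown hG w z = 1 := Subtype.ext e3'
  exact ⟨by simpa [hneg] using qv_step hf hG hMf hT huz huw hzw ha',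
    by simpa [hneg] using qv_step hf hG hMf hT huw huz eu ha⟩

include hG hMf hT h2 in
/-- One multiplier outside the subfield gives every transvection at u. -/
theorem all_params [Fintype F] {r : ℕ} (hr : r.Prime) (hcard : Fintype.card F = Nat.card F₀ ^ r)
    {u w : ι → F₀} (hu : u ≠ 0) (huw : formDown hG w u = 0) (hw : w ∉ Submodule.span F₀ {u})
    {x : ι → F} {d : F} (hxu : f (up u) x = 0) (hm : stv hf x d ∈ M)
    (hlam : d * (f x (up w) * f x (up w)) ∉ F₀) (c : F) : stv hf (up u) c ∈ M := by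
  have hneg : ∀ x : F, -x = x := fun x => by linear_combination -x * h2
  have hf₀ := formDown_symplectic hf hG
  have hneg₀ : ∀ x : F₀, -x = x := fun x => Subtype.ext (hneg _)
  obtain ⟨φ, hφu, hφw⟩ := exists_dual hw
  obtain ⟨z, hz⟩ := exists_eq_f hf₀ φ
  have huz : formDown hG z u = 0 :=
    (f_eq_zero_comm hf₀).1 (by rw [← hz, hφu u (Submodule.mem_span_singleton_self u)])
  have hzw : formDown hG z w = 1 := by rw [hf₀.skew, hneg₀, ← hz, hφw]
  obtain ⟨u₁, -, hu₁⟩ := exists_partner hf₀ (nondeg_top hf₀) (e := u) Submodule.mem_top hu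
  set u' := u₁ + formDown hG u₁ w • z + formDown hG u₁ z • w with hu'
  have huu' : formDown hG u u' = 1 := by
    rw [hu', hf₀.bilinear.add_right, hf₀.bilinear.add_right, hf₀.bilinear.smul_right, hf₀.bilinear.smul_right,
      hu₁, (f_eq_zero_comm hf₀).1 huz, (f_eq_zero_comm hf₀).1 huw]
    simp
  have hu'z : formDown hG u' z = 0 := by
    rw [hu', hf₀.bilinear.add_left, hf₀.bilinear.add_left, hf₀.bilinear.smul_left, hf₀.bilinear.smul_left,
      hf₀.alternating, hf₀.skew w z, hzw, hneg₀]
    simp only [mul_zero, add_zero, mul_one]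
    refine Subtype.ext ?_
    push_cast
    linear_combination (formDown hG u₁ z : F) * h2
  have hu'w : formDown hG u' w = 0 := by
    rw [hu', hf₀.bilinear.add_left, hf₀.bilinear.add_left, hf₀.bilinear.smul_left, hf₀.bilinear.smul_left,
      hf₀.alternating, hzw]
    simp only [mul_zero, add_zero, mul_one]
    refine Subtype.ext ?_
    push_cast
    linear_combination (formDown hG u₁ w : F) * h2
  have a1 : f (up z) (up u) = 0 := congrArg Subtype.val huz
  have a2 : f (up w) (up u) = 0 := congrArg Subtype.val huw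
  have a3 : f (up z) (up w) = 1 := congrArg Subtype.val hzw
  have a4 : f (up u) (up u') = 1 := congrArg Subtype.val huu'
  have a5 : f (up u') (up z) = 0 := congrArg Subtype.val hu'z
  have a6 : f (up u') (up w) = 0 := congrArg Subtype.val hu'w
  have a1' := (f_eq_zero_comm hf).1 a1
  have a2' := (f_eq_zero_comm hf).1 a2
  have a5' := (f_eq_zero_comm hf).1 a5
  have a6' := (f_eq_zero_comm hf).1 a6
  have a3' : f (up w) (up z) = 1 := by rw [hf.skew, a3, hneg]
  have a4' : f (up u') (up u) = 1 := by rw [hf.skew, a4, hneg]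
  have hP := square_pairs hf hG hMf hT h2 hr hcard huz huw hzw hxu hm hlam
  -- exchanging u and z
  obtain ⟨σ, hσdef⟩ : ∃ σ, σ = qv hf (up u + up z) (up u' + up w) 0 := ⟨_, rfl⟩
  have hσM : σ ∈ M := hσdef ▸ qv_rat_mem hf hT (ratV_add (ratV_up u) (ratV_up z))
    (ratV_add (ratV_up u') (ratV_up w)) F₀.zero_mem
  have hp : f (up u' + up w) (up u + up z) = 0 := by
    simp only [hf.bilinear.add_left, hf.bilinear.add_right, a4', a5, a2, a3']
    linear_combination h2
  have two0 : ∀ v : ι → F, v + v = 0 := fun v => by rw [← two_smul F v, h2, zero_smul]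
  have σu : mv σ (up u) = up z := by
    rw [hσdef, mv_qv hf hp]
    simp only [hf.bilinear.add_right, hf.alternating, a1', a4, a2', add_zero, zero_smul, one_smul, zero_mul]
    linear_combination (norm := module) two0 (up u)
  have σz : mv σ (up z) = up u := by
    rw [hσdef, mv_qv hf hp]
    simp only [hf.bilinear.add_right, hf.alternating, a1, a5', a3, add_zero, zero_add, zero_smul, one_smul,
      zero_mul]
    linear_combination (norm := module) two0 (up z)
  have hE : ∀ b : F, stv hf (up u) (b * b) * stv hf (up z) (b * b) ∈ M := by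
    intro b
    have h1 := M.mul_mem (M.mul_mem hσM (hP b).2) (M.inv_mem hσM)
    rw [qv_conj' hf _ (preserve_of_mem hMf hσM), mv_smul, σu, σz] at h1
    refine (congrArg (· ∈ M) (ext_mv fun t => ?_)).mp (M.mul_mem (hP b).2 h1)
    rw [mv_mul, mv_qv hf (by rw [hf.bilinear.smul_left, a1, mul_zero]),
      mv_qv hf (by rw [hf.bilinear.smul_left, a1', mul_zero]), mv_mul, mv_stv, mv_stv]
    simp only [hf.bilinear.add_left, hf.bilinear.smul_left, hf.bilinear.smul_right, hf.alternating, a1, a1',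
      mul_zero, add_zero, zero_add]
    match_scalars <;> grind
  obtain ⟨B, hB⟩ : ∃ B : F, B ∉ F₀ := ⟨_, hlam⟩
  have sqrt : ∀ a : F, ∃ b, b * b = a := fun a => by
    obtain ⟨b, hb⟩ := FiniteField.isSquare_of_char_two
      (ringChar.eq_iff.2 (CharTwo.of_one_ne_zero_of_two_eq_zero one_ne_zero h2)) a
    exact ⟨b, hb.symm⟩
  obtain ⟨β, rfl⟩ := sqrt B
  have hB0 : β * β * (β * β + 1) ≠ 0 := by
    refine mul_ne_zero (fun h => hB (h ▸ F₀.zero_mem)) fun h => hB ?_
    rw [eq_neg_of_add_eq_zero_left h, hneg]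
    exact F₀.one_mem
  obtain ⟨b, hb⟩ := sqrt (c / (β * β * (β * β + 1)))
  have hc : b * b * (β * β * (β * β + 1)) = c := by rw [hb, div_mul_cancel₀ _ hB0]
  have hEm := hE β
  have hfix : mv (stv hf (up u) (β * β) * stv hf (up z) (β * β)) (up u) = up u := by
    rw [mv_mul, stv_fix hf _ _ a1', stv_fix hf _ _ (hf.alternating _)]
  have himg : mv (stv hf (up u) (β * β) * stv hf (up z) (β * β)) (b • up w) =
      b • up w + (b * (β * β)) • up z := by
    rw [mv_mul, mv_stv, mv_stv]
    simp only [hf.bilinear.add_left, hf.bilinear.smul_left, a2, a1, a3', mul_zero, add_zero, zero_smul, mul_one]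
    congr 2
    ring
  have h1 := M.mul_mem (M.mul_mem hEm (hP b).1) (M.inv_mem hEm)
  have hbw : f (b • up w) (up u) = 0 := by rw [hf.bilinear.smul_left, a2, mul_zero]
  rw [qv_conj hf hbw _ (preserve_of_mem hMf hEm) hfix, himg] at h1
  have h3 := M.mul_mem (hP b).1 (hP (b * (β * β))).2
  rw [qv_mul hf hbw (by rw [hf.bilinear.smul_left, a1, mul_zero]), hf.bilinear.smul_left,
    hf.bilinear.smul_right, a3] at h3
  have h4 : f (b • up w + (b * (β * β)) • up z) (up u) = 0 := by
    rw [hf.bilinear.add_left, hbw, hf.bilinear.smul_left, a1]; ring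
  refine (congrArg (· ∈ M) ?_).mp (M.mul_mem (M.inv_mem h1) h3)
  rw [qv_inv hf h4, qv_mul hf (by rw [f_neg_left hf, h4, neg_zero]) h4, neg_add_cancel, f_neg_right hf,
    hf.alternating, qv_zero]
  congr 1
  linear_combination hc

include hG hMf hT h2 in
/-- A transvection at a rational centre with parameter outside the subfield gives the whole group. -/
theorem eq_of_param [Fintype F] {r : ℕ} (hr : r.Prime) (hcard : Fintype.card F = Nat.card F₀ ^ r)
    (hn : 3 ≤ Fintype.card ι) {v₀ : ι → F} (hv₀ : RatV F₀ v₀) (hv₀0 : v₀ ≠ 0) {c₀ : F}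
    (hm : stv hf v₀ c₀ ∈ M) (hc₀ : c₀ ∉ F₀) : M = preserving (Units.coeHom (Matrix ι ι F)) f := by
  have hneg : ∀ x : F, -x = x := fun x => by linear_combination -x * h2
  have hf₀ := formDown_symplectic hf hG
  have trans : ∀ u v : ι → F₀, u ≠ 0 → v ≠ 0 → ∃ g ∈ M, mv g (up u) = up v := by
    intro u v hu hv
    obtain ⟨g, hg, hgu, -⟩ := exists_move_nondeg hf₀ (nondeg_top hf₀)
      (K := M.comap (Matrix.GeneralLinearGroup.map (F₀.subtype : F₀ →+* F)))
      (fun w _ c => by
        rw [Subgroup.mem_comap, map_stv hf hG]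
        exact hT _ (ratV_up w) _ c.2)
      (Submodule.mem_top (x := u)) (Submodule.mem_top (x := v)) hu hv
    exact ⟨_, hg, by rw [mv_map, hgu]⟩
  obtain ⟨v, rfl⟩ := exists_up hv₀
  have hv : v ≠ 0 := fun h => hv₀0 (by rw [h, up_zero])
  have hC : ∀ u : ι → F₀, ∀ c, stv hf (up u) c ∈ M := by
    intro u c
    rcases eq_or_ne u 0 with rfl | hu
    · rw [show stv hf (up (0 : ι → F₀)) c = 1 from ext_mv fun x => by
        rw [mv_stv, mv_one, up_zero, smul_zero, add_zero]]
      exact M.one_mem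
    obtain ⟨t, ht, htu⟩ : ∃ t : ι → F₀, formDown hG t u = 0 ∧ t ∉ Submodule.span F₀ {u} := by
      by_contra hcon
      push Not at hcon
      have h1 := Submodule.finrank_mono (show LinearMap.ker (formR hf₀ u) ≤ Submodule.span F₀ {u} from
        fun t ht => hcon t (LinearMap.mem_ker.1 ht))
      have h2 := LinearMap.finrank_range_add_finrank_ker (formR hf₀ u)
      have h3 := Submodule.finrank_le (LinearMap.range (formR hf₀ u))
      rw [finrank_span_singleton hu] at h1
      rw [Module.finrank_self] at h3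
      rw [Module.finrank_pi] at h2
      omega
    obtain ⟨φ, hφu, hφt⟩ := exists_dual htu
    obtain ⟨z, hz⟩ := exists_eq_f hf₀ φ
    have hzu : formDown hG u z = 0 := by rw [← hz, hφu u (Submodule.mem_span_singleton_self u)]
    have hzt : formDown hG t z = 1 := by rw [← hz, hφt]
    have hz0 : z ≠ 0 := fun h => by rw [h, f_zero_right hf₀] at hzt; exact zero_ne_one hzt
    obtain ⟨g, hg, hgz⟩ := trans v z hv hz0
    have hx := hgz ▸ conj_stv_mem hf hMf hg hm
    have e : f (up z) (up t) = 1 := by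
      rw [hf.skew, hneg]; exact congrArg Subtype.val hzt
    refine all_params hf hG hMf hT h2 hr hcard hu ht htu (congrArg Subtype.val hzu) hx ?_ c
    rw [e, mul_one, mul_one]
    exact hc₀
  refine sCentres_eq_univ hf hMf fun x => ?_
  rw [pi_eq_sum_univ' x]
  induction (Finset.univ : Finset ι) using Finset.induction_on with
  | empty =>
    intro c
    rw [Finset.sum_empty, show stv hf 0 c = 1 from ext_mv fun x => by
      rw [mv_stv, mv_one, smul_zero, add_zero]]
    exact M.one_mem
  | insert i s hi ih =>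
    rw [Finset.sum_insert hi, add_comm]
    set v := ∑ j ∈ s, x j • (Pi.single j 1 : ι → F) with hv'
    set e₀ : ι → F₀ := Pi.single i 1 with he₀
    have hei : up e₀ = (Pi.single i 1 : ι → F) := up_single i
    rw [← hei]
    have heC : up e₀ ∈ sCentres hf M := fun c => hC e₀ c
    by_cases hfe : f v (up e₀) = 0
    swap
    · rcases eq_or_ne (x i) 0 with hx | hx
      · rwa [hx, zero_smul, add_zero]
      · exact sCentres_add hf hMf ih (sCentres_smul hf heC _)
          (by rw [hf.bilinear.smul_right]; exact mul_ne_zero hx hfe)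
    have he0 : up e₀ ≠ 0 := fun h => one_ne_zero (α := F) (by simpa [hei] using congrFun h i)
    by_cases hve : ∃ k : F, v = k • up e₀
    · obtain ⟨k, hk⟩ := hve
      rw [hk, ← add_smul]
      exact sCentres_smul hf heC _
    push Not at hve
    obtain ⟨χ, hχ, -, hχe, hχv⟩ := exists_rat_annihilator (ratV_up e₀) he0 hve
    obtain ⟨u, hu, hχ'⟩ := exists_rat_eq_f hf hG hχ
    rw [hχ'] at hχe hχv
    obtain ⟨u₀, rfl⟩ := exists_up hu
    have hmem : qv hf (up u₀) ((x i / f v (up u₀)) • up e₀) 0 ∈ M := by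
      have e' : f (up u₀) (up e₀) = 0 := (f_eq_zero_comm hf).1 hχe
      have key : ∀ b : F, qv hf (up u₀) (b • up e₀) 0 ∈ M := fun b => by
        have hs : ∀ k c : F, stv hf (k • up u₀ + up e₀) c ∈ M := fun k c => by
          by_cases hk : k = 0
          · rw [hk, zero_smul, zero_add]; exact hC e₀ c
          · have : stv hf (k • up u₀ + up e₀) c ∈ M := by
              refine (congrArg (· ∈ M) (ext_mv fun t => ?_)).mp (M.mul_mem (M.mul_mem (hC (u₀ + e₀) (k * c))
                (hC u₀ (k * k * c + k * c))) (hC e₀ (c + k * c)))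
              simp only [mv_mul, mv_stv, up_add, hf.bilinear.add_left, hf.bilinear.add_right, hf.bilinear.smul_left,
                hf.bilinear.smul_right, hf.alternating, hχe, e', mul_zero, add_zero, zero_add]
              match_scalars <;> grind
            exact this
        refine (congrArg (· ∈ M) (ext_mv fun t => ?_)).mp (M.mul_mem (M.mul_mem (hs b 1) (hC u₀ (b * b)))
          (hC e₀ 1))
        simp only [mv_mul, mv_stv, mv_qv hf (show f (b • up e₀) (up u₀) = 0 by
            rw [hf.bilinear.smul_left, hχe, mul_zero]), hf.bilinear.add_left, hf.bilinear.add_right,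
          hf.bilinear.smul_left, hf.bilinear.smul_right, hf.alternating, hχe, e', mul_zero, add_zero, zero_add]
        match_scalars <;> grind
      exact key _
    have := sCentres_mv hf hMf hmem ih
    rw [mv_qv hf (by rw [hf.bilinear.smul_left, hχe, mul_zero]), hf.bilinear.smul_right, hfe, smul_smul,
      mul_div_cancel₀ _ hχv] at this
    simpa using this

include hG hMf hT h2 in
/-- Without irrational parameters, centres orthogonal to a rational vector are rational up to scalars. -/
theorem ratLine_centre [Fintype F] {r : ℕ} (hr : r.Prime) (hcard : Fintype.card F = Nat.card F₀ ^ r)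
    (hP : ∀ v : ι → F, RatV F₀ v → v ≠ 0 → ∀ c, stv hf v c ∈ M → c ∈ F₀)
    {x : ι → F} (hm : stv hf x 1 ∈ M) {u : ι → F} (hu : RatV F₀ u) (hu0 : u ≠ 0) (hux : f u x = 0) :
    RatLine F₀ x := by
  have hf₀ := formDown_symplectic hf hG
  have hneg : ∀ x : F, -x = x := fun x => by linear_combination -x * h2
  obtain ⟨c₁, hc₁⟩ : ∃ c : F, c ∉ F₀ := by
    by_contra hall
    push Not at hall
    have : Nat.card F₀ = Fintype.card F := by
      rw [← Nat.card_eq_fintype_card]
      exact Nat.card_congr ⟨fun x => x.1, fun x => ⟨x, hall x⟩, fun x => rfl, fun x => rfl⟩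
    rw [← this] at hcard
    have h4 : Nat.card F₀ ^ 1 < Nat.card F₀ ^ r := Nat.pow_lt_pow_right Finite.one_lt_card hr.one_lt
    rw [pow_one, ← hcard] at h4
    exact lt_irrefl _ h4
  have step : ∀ u w : ι → F₀, u ≠ 0 → formDown hG w u = 0 → f (up u) x = 0 → f x (up w) ∈ F₀ := by
    intro u w hu hwu hxu
    by_cases hw : w ∈ Submodule.span F₀ {u}
    · obtain ⟨k, rfl⟩ := Submodule.mem_span_singleton.1 hw
      rw [up_smul, hf.bilinear.smul_right, (f_eq_zero_comm hf).1 hxu, mul_zero]
      exact F₀.zero_mem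
    by_contra hs
    refine hc₁ (hP _ (ratV_up u) (up_ne_zero hu) c₁ (all_params hf hG hMf hT h2 hr hcard hu hwu hw hxu hm ?_ c₁))
    intro h
    rw [one_mul] at h
    refine hs ?_
    obtain ⟨b, hb⟩ := FiniteField.isSquare_of_char_two
      (ringChar.eq_iff.2 (CharTwo.of_one_ne_zero_of_two_eq_zero one_ne_zero (show (2 : F₀) = 0 from Subtype.ext h2)))
      (⟨_, h⟩ : F₀)
    have hb' : f x (up w) * f x (up w) = (b : F) * b := congrArg Subtype.val hb
    rcases mul_self_eq_mul_self_iff.1 hb' with h' | h'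
    · exact h' ▸ b.2
    · exact h' ▸ F₀.neg_mem b.2
  obtain ⟨u₀, rfl⟩ := exists_up hu
  by_cases hx : ∃ k : F, x = k • up u₀
  · obtain ⟨k, rfl⟩ := hx
    rcases eq_or_ne k 0 with rfl | hk
    · exact ⟨1, one_ne_zero, fun i => by simp⟩
    · exact ⟨k⁻¹, inv_ne_zero hk, by rw [smul_smul, inv_mul_cancel₀ hk, one_smul]; exact ratV_up u₀⟩
  push Not at hx
  have hu₀ : u₀ ≠ 0 := fun h => hu0 (by rw [h, up_zero])
  obtain ⟨χ, hχ, -, hχu, hχx⟩ := exists_rat_annihilator (ratV_up u₀) hu0 hx
  obtain ⟨e, he, hχ'⟩ := exists_rat_eq_f hf hG hχ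
  rw [hχ'] at hχu hχx
  obtain ⟨e₀, rfl⟩ := exists_up he
  -- the component off u
  obtain ⟨d, -, hd⟩ := exists_partner hf₀ (nondeg_top hf₀) (e := u₀) Submodule.mem_top hu₀
  have a4 : f (up u₀) (up d) = 1 := congrArg Subtype.val hd
  set y : ι → F := x + f x (up d) • up u₀ with hy
  have hyrat : RatV F₀ y := by
    refine ratV_of_f hf hG fun v hv => ?_
    obtain ⟨v₀, rfl⟩ := exists_up hv
    set v' := v₀ + formDown hG v₀ u₀ • d with hv'
    have hv'u : formDown hG v' u₀ = 0 := by
      refine Subtype.ext ?_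
      rw [hv', hf₀.bilinear.add_left, hf₀.bilinear.smul_left]
      have : (formDown hG d u₀ : F) = 1 := by rw [formDown_val, hf.skew, a4, hneg]
      push_cast
      rw [this]
      linear_combination (formDown hG v₀ u₀ : F) * h2
    have h1 := step u₀ v' hu₀ hv'u hux
    refine (congrArg (· ∈ F₀) ?_).mp h1
    rw [hv', up_add, up_smul, hf.bilinear.add_right, hf.bilinear.smul_right, formDown_val, hy,
      hf.bilinear.add_left, hf.bilinear.smul_left, hf.skew (up v₀) (up u₀), hneg]
    ring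
  obtain ⟨y₀, hy₀⟩ := exists_up hyrat
  have hy₀0 : y₀ ≠ 0 := fun h => by
    rw [h, up_zero, hy] at hy₀
    exact hx _ ((eq_neg_of_add_eq_zero_left hy₀).trans (by rw [← neg_smul, hneg]))
  have hxy : f (up y₀) x = 0 := by
    rw [← hy₀, hy, hf.bilinear.add_left, hf.alternating, hf.bilinear.smul_left, hux, mul_zero, add_zero]
  -- the coefficient of u
  obtain ⟨k, hk⟩ : ∃ k : F₀, k = formDown hG y₀ d := ⟨_, rfl⟩
  set d' := d + k • e₀ with hd'
  obtain ⟨ρ, hρ⟩ : ∃ ρ : F₀, ρ = formDown hG y₀ e₀ := ⟨_, rfl⟩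
  have hye : f (up y₀) (up e₀) ≠ 0 := by
    rw [← hy₀, hy, hf.bilinear.add_left, hf.bilinear.smul_left, hχu, mul_zero, add_zero]
    exact hχx
  have hρ0 : (ρ : F) ≠ 0 := by rw [hρ, formDown_val]; exact hye
  set d'' := d + (k / ρ) • e₀ with hd''
  have hd''y : formDown hG d'' y₀ = 0 := by
    refine Subtype.ext ?_
    show f (up d'') (up y₀) = 0
    rw [hd'', up_add, up_smul, hf.bilinear.add_left, hf.bilinear.smul_left, hf.skew (up d) (up y₀),
      hf.skew (up e₀) (up y₀), hneg, hneg]
    push_cast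
    rw [hk, hρ, formDown_val, formDown_val, div_mul_cancel₀ _ hye]
    linear_combination f (up y₀) (up d) * h2
  have h1 := step y₀ d'' hy₀0 hd''y hxy
  have hxe : f x (up e₀) ∈ F₀ := by
    have h3 : f x (up e₀) = f (up y₀) (up e₀) := by
      rw [← hy₀, hy, hf.bilinear.add_left, hf.bilinear.smul_left, hχu, mul_zero, add_zero]
    rw [h3]; exact hG _ _ (ratV_up _) (ratV_up _)
  have hxd : f x (up d) ∈ F₀ := by
    rw [hd'', up_add, up_smul, hf.bilinear.add_right, hf.bilinear.smul_right] at h1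
    have := F₀.sub_mem h1 (F₀.mul_mem (k / ρ).2 hxe)
    rwa [add_sub_cancel_right] at this
  refine ⟨1, one_ne_zero, ?_⟩
  rw [one_smul, show x = up y₀ + f x (up d) • up u₀ by
    rw [← hy₀, hy]
    ext i; simp only [Pi.add_apply, Pi.smul_apply, smul_eq_mul]
    linear_combination -(f x (up d) * up u₀ i) * h2]
  exact ratV_add (ratV_up y₀) fun i => F₀.mul_mem hxd (u₀ i).2

include hf in
/-- Maximality of the subfield group. -/
theorem subfield_maximal [Fintype F] {r : ℕ} (hr : r.Prime) (hcard : Fintype.card F = Nat.card F₀ ^ r)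
    (hn : 4 ≤ Fintype.card ι) (h2 : (2 : F) = 0) (hG : ∀ u v : ι → F, RatV F₀ u → RatV F₀ v → f u v ∈ F₀) :
    Geo.IsMaximalIn (preserving (Units.coeHom (Matrix ι ι F)) f)
      (((Matrix.GeneralLinearGroup.map (F₀.subtype : F₀ →+* F)).range ⊔ Geo.scalars ι F) ⊓
        preserving (Units.coeHom (Matrix ι ι F)) f) := by
  have hneg : (-1 : F) = 1 := by linear_combination -h2
  have h3 : 3 ≤ Fintype.card ι := by omega
  have hne : Nonempty ι := Fintype.card_pos_iff.1 (by omega)
  have hf₀ := formDown_symplectic hf hG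
  obtain ⟨c, hc⟩ : ∃ c : F, c ∉ F₀ := by
    by_contra hall
    push Not at hall
    have : Nat.card F₀ = Fintype.card F := by
      rw [← Nat.card_eq_fintype_card]
      exact Nat.card_congr ⟨fun x => x.1, fun x => ⟨x, hall x⟩, fun x => rfl, fun x => rfl⟩
    rw [← this] at hcard
    have h4 : Nat.card F₀ ^ 1 < Nat.card F₀ ^ r := Nat.pow_lt_pow_right Finite.one_lt_card hr.one_lt
    rw [pow_one, ← hcard] at h4
    exact lt_irrefl _ h4
  obtain ⟨i₀⟩ := hne
  have hne' : Nonempty ι := ⟨i₀⟩
  set p₁ : ι → F₀ := Pi.single i₀ 1 with hp₁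
  have hp₁0 : p₁ ≠ 0 := fun h => one_ne_zero (α := F₀) (by simpa [hp₁] using congrFun h i₀)
  obtain ⟨q₁, -, hpq⟩ := exists_partner hf₀ (nondeg_top hf₀) (e := p₁) Submodule.mem_top hp₁0
  have e₁ : f (up p₁) (up q₁) = 1 := congrArg Subtype.val hpq
  refine ⟨lt_of_le_of_ne inf_le_right fun heq => hc ?_, fun M hHM hMS => ?_⟩
  · obtain ⟨a, ha, hA⟩ := (mem_subfield_one_iff _).1 (heq.ge (stv_mem hf (up p₁) c)).1
    have hA' : RatV F₀ (a • mv (stv hf (up p₁) c) (up p₁)) ∧ RatV F₀ (a • mv (stv hf (up p₁) c) (up q₁)) := by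
      constructor <;>
      · rw [← Matrix.smul_mulVec]
        exact ratV_mulVec hA (ratV_up _)
    obtain ⟨h1, h2⟩ := hA'
    rw [stv_fix hf _ _ (hf.alternating _)] at h1
    rw [mv_stv, hf.skew (up q₁), e₁] at h2
    have ha' : a ∈ F₀ := by simpa [hp₁, up] using h1 i₀
    have := F₀.sub_mem (F₀.mul_mem ha' (q₁ i₀).2) (h2 i₀)
    have h5 : a * c ∈ F₀ := by
      refine (congrArg (· ∈ F₀) ?_).mp this
      simp [hp₁, up]
      ring
    have := F₀.div_mem h5 ha'
    rwa [mul_div_cancel_left₀ _ ha] at this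
  have hT : ∀ v : ι → F, RatV F₀ v → ∀ c ∈ F₀, stv hf v c ∈ M := fun v hv d hd =>
    hHM ⟨(mem_subfield_one_iff _).2 (srat_of_ratM (ratM_stv hf hG hv hd)), stv_mem hf v d⟩
  by_cases hP : ∀ v : ι → F, RatV F₀ v → v ≠ 0 → ∀ d, stv hf v d ∈ M → d ∈ F₀
  swap
  · push Not at hP
    obtain ⟨v, hv, hv0, d, hd, hd'⟩ := hP
    exact Or.inr (eq_of_param hf hG hMS hT h2 hr hcard h3 hv hv0 hd hd')
  refine Or.inl (le_antisymm (fun g hg => ⟨(mem_subfield_one_iff g).2 ?_, hMS hg⟩) hHM)
  have hroot : ∀ a : F, a ^ 2 ∈ F₀ → a ∈ F₀ := by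
    intro a ha
    rw [pow_two] at ha
    obtain ⟨b, hb⟩ := FiniteField.isSquare_of_char_two
      (ringChar.eq_iff.2 (CharTwo.of_one_ne_zero_of_two_eq_zero one_ne_zero (show (2 : F₀) = 0 from Subtype.ext h2)))
      (⟨a * a, ha⟩ : F₀)
    have hb' : a * a = (b : F) * b := congrArg Subtype.val hb
    rcases mul_self_eq_mul_self_iff.1 hb' with h | h
    · exact h ▸ b.2
    · exact h ▸ F₀.neg_mem b.2
  have hline : ∀ {g : GL ι F}, g ∈ M → ∀ {v : ι → F}, RatV F₀ v → ∀ {u : ι → F}, RatV F₀ u → u ≠ 0 →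
      f (mv g⁻¹ u) v = 0 → RatLine F₀ (mv g v) := by
    intro g hg v hv u hu hu0 h
    refine ratLine_centre hf hG hMS hT h2 hr hcard hP (conj_stv_mem hf hMS hg (hT v hv _ F₀.one_mem)) hu hu0 ?_
    have := preserve_of_mem hMS hg (mv g⁻¹ u) v
    rwa [mv_mv_inv, h] at this
  have hK : ∀ g ∈ M, ∀ D : Matrix ι ι F, RatM F₀ D → D ≠ 0 → D.det = 0 → ∀ y : ι → F,
      RatV F₀ (mv g (D *ᵥ y)) → mv g (D *ᵥ y) ≠ 0 → SRat F₀ g := by
    intro g hg D hD _ hdet y hu hu0
    obtain ⟨e, he0, he, heD⟩ := exists_rat_left_ker hD hdet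
    obtain ⟨v₀, hv₀, hv₀'⟩ := exists_rat_eq_f hf hG (ratD_dotDual he)
    have hv₀0 : v₀ ≠ 0 := fun h => dotDual_ne_zero he0 (LinearMap.ext fun x => by
      rw [hv₀' x, h, f_zero_right hf]; rfl)
    obtain ⟨a, ha, hav⟩ := hline hg hv₀ hu hu0
      (by rw [mv_inv_mv, ← hv₀']; exact heD y)
    have step : ∀ v₁ : ι → F, RatV F₀ v₁ → f v₀ v₁ = 0 → RatLine F₀ (mv g v₁) := fun v₁ hv₁ h01 =>
      hline hg hv₁ hav
        (smul_ne_zero ha fun h => hv₀0 (mv_inj g (h.trans (mv_zero g).symm)))
        (by rw [mv_smul, mv_inv_mv, hf.bilinear.smul_left, h01, mul_zero])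
    refine srat_of_lines fun w hw hw0 => ?_
    obtain ⟨v₁, hv₁0, hv₁, h10, h1w⟩ := exists_rat_orth hf hG h3 hv₀ hw
    obtain ⟨b, hb, hbv⟩ := step v₁ hv₁ ((f_eq_zero_comm hf).1 h10)
    exact hline hg hw hbv
      (smul_ne_zero hb fun h => hv₁0 (mv_inj g (h.trans (mv_zero g).symm)))
      (by rw [mv_smul, mv_inv_mv, hf.bilinear.smul_left, h1w, mul_zero])
  obtain ⟨p₂, hp₂0, hp₂r, k1, k2⟩ := exists_rat_orth hf hG h3 (ratV_up p₁) (ratV_up q₁)
  obtain ⟨p₂, rfl⟩ := exists_up hp₂r
  have hp₂' : p₂ ≠ 0 := fun h => hp₂0 (by rw [h, up_zero])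
  obtain ⟨q₂, -, hq₂⟩ := exists_partner hf₀ (nondeg_top hf₀) (e := p₂) Submodule.mem_top hp₂'
  have e₂ : f (up p₂) (up q₂) = 1 := congrArg Subtype.val hq₂
  have a1 : f (up p₁) (up p₂) = 0 := (f_eq_zero_comm hf).1 k1
  have hn1 : (-1 : Matrix ι ι F) = 1 := by rw [← neg_one_smul F (1 : Matrix ι ι F), hneg, one_smul]
  set A := stv hf (up p₁) 1 with hA
  set B := stv hf (up p₂) 1 with hB
  have hzv : ∀ x, mv (A * B) x = x + f x (up p₂) • up p₂ + f x (up p₁) • up p₁ := fun x => by
    rw [mv_mul, hA, hB, mv_stv, mv_stv, one_mul, one_mul, hf.bilinear.add_left, hf.bilinear.smul_left,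
      k1, mul_zero, add_zero]
  have two0 : ∀ v : ι → F, v + v = 0 := fun v => by rw [← two_smul F v, h2, zero_smul]
  have hA2 : A * A = 1 := by
    rw [hA, stv_add, one_add_one_eq_two, h2, stv_zero]
  have hz2 : A * B * (A * B) = 1 := ext_mv fun x => by
    rw [mv_mul, hzv, hzv, mv_one]
    simp only [hf.bilinear.add_left, hf.bilinear.smul_left, hf.alternating, a1, k1, mul_zero, add_zero]
    linear_combination (norm := module) two0 (f x (up p₂) • up p₂) + two0 (f x (up p₁) • up p₁)
  have hrat : ∀ x : ι → F₀, RatM F₀ (stv hf (up x) 1 : Matrix ι ι F) := fun x =>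
    ratM_stv hf hG (ratV_up x) F₀.one_mem
  have hmem : ∀ x : ι → F₀, stv hf (up x) 1 ∈ M := fun x => hT _ (ratV_up x) _ F₀.one_mem
  have hsA : ((A : Matrix ι ι F) - 1).rank ≤ 1 := by
    refine le_trans (Submodule.finrank_mono (t := Submodule.span F {up p₁}) ?_)
      ((finrank_span_le_card _).trans (by simp))
    rintro _ ⟨x, rfl⟩
    rw [Matrix.mulVecLin_apply, Matrix.sub_mulVec, Matrix.one_mulVec]
    show mv A x - x ∈ _
    rw [hA, mv_stv, add_sub_cancel_left]
    exact Submodule.smul_mem _ _ (Submodule.mem_span_singleton_self _)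
  have hsz : 2 ≤ (((A * B : GL ι F) : Matrix ι ι F) - 1).rank := by
    have hind : LinearIndependent F ![up p₂, up p₁] := by
      rw [LinearIndependent.pair_iff]
      intro s t hst
      have h1 : t = 0 := by
        simpa [hf.bilinear.add_left, hf.bilinear.smul_left, f_zero_left hf, k2, e₁] using
          congrArg (fun v => f v (up q₁)) hst
      refine ⟨?_, h1⟩
      simpa [h1, hf.bilinear.smul_left, f_zero_left hf, e₂] using congrArg (fun v => f v (up q₂)) hst
    have := finrank_span_eq_card hind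
    rw [Fintype.card_fin] at this
    refine this.symm.le.trans (Submodule.finrank_mono (Submodule.span_le.2 ?_))
    have q21 : f (up q₁) (up p₂) = 0 := (f_eq_zero_comm hf).1 k2
    have e₁' : f (up q₁) (up p₁) = 1 := by rw [hf.skew, e₁, hneg]
    have e₂' : f (up q₂) (up p₂) = 1 := by rw [hf.skew, e₂, hneg]
    have key : ∀ v, mv (A * B) v - v ∈ LinearMap.range ((((A * B : GL ι F) : Matrix ι ι F) - 1).mulVecLin) :=
      fun v => ⟨v, by rw [Matrix.mulVecLin_apply, Matrix.sub_mulVec, Matrix.one_mulVec]⟩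
    have hk1 : up p₁ ∈ LinearMap.range ((((A * B : GL ι F) : Matrix ι ι F) - 1).mulVecLin) := by
      simpa [hzv, q21, e₁', add_assoc] using key (up q₁)
    rintro _ ⟨k, rfl⟩
    fin_cases k
    · have := key (up q₂)
      rw [hzv, e₂', one_smul, add_assoc, add_sub_cancel_left] at this
      have h' := Submodule.sub_mem _ this (Submodule.smul_mem _ (f (up q₂) (up p₁)) hk1)
      simpa using h'
    · exact hk1
  have hA1 : A ≠ 1 := fun h => by
    have h0 := congrArg (fun g => f (mv g (up q₁) - up q₁) (up q₁)) h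
    simp [hA, mv_stv, mv_one, hf.skew (up q₁) (up p₁), e₁, f_neg_left hf, hf.bilinear.smul_left,
      f_zero_left hf] at h0
  have hz1 : A * B ≠ 1 := fun h => by
    rw [h, Units.val_one, sub_self, Matrix.rank_zero] at hsz; omega
  exact srat_of_involutions (s := A) (z := A * B) hroot hK (hmem _) (M.mul_mem (hmem _) (hmem _)) hA2 hz2
    (hrat _) (by rw [Units.val_mul]; exact ratM_mul (hrat _) (hrat _)) hA1
    (fun h => hA1 (Units.ext ((h.trans hn1).trans Units.val_one.symm))) hz1
    (fun h => hz1 (Units.ext ((h.trans hn1).trans Units.val_one.symm))) (by omega) (Or.inl hneg) g hg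

end Cfsg.Agent.SympSmall
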